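import Groth.Prelude.Def_Desc
import Groth.Agent.Grpd.AffineQuot
import Groth.Agent.GrpdInv.Basic
import Groth.Agent.EtDD.Basic

/-!
# The descent datum of a cartesian etale morphism of groupoids preserving stabilizers

For a morphism of groupoid schemes `f : G' ⟶ G` which is cartesian on source maps and on stabilizers,
arrows of `G` act on the points of `G'.U`, the stabilizers trivially. When `G.U ⟶ Spec C` has the
orbits as fibres, this gives a descent datum for `G'.U` relative to `G.U ⟶ Spec C`.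
-/

set_option autoImplicit false
set_option backward.isDefEq.respectTransparency false

universe u

open CategoryTheory CategoryTheory.Limits AlgebraicGeometry

namespace Groth.Agent.GrpdEtale

open Groth.Agent.GrpdLib Groth.Agent.GrpdInv

variable {S : Scheme.{u}} {G' G : Grpd.GroupoidScheme S} (f : Grpd.GroupoidScheme.Hom G' G)
  (hs : IsPullback f.fR G'.s G.s f.fU)

/-- the translate of `u` by the arrow `r` -/
noncomputable def act {T : Scheme.{u}} (r : T ⟶ G.R) (u : T ⟶ G'.U) (h : r ≫ G.s = u ≫ f.fU) :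
    T ⟶ G'.U :=
  hs.lift r u h ≫ G'.t

lemma act_congr {T : Scheme.{u}} {r r' : T ⟶ G.R} {u u' : T ⟶ G'.U} (h₁ : r = r') (h₂ : u = u')
    (h : r ≫ G.s = u ≫ f.fU) : act f hs r u h = act f hs r' u' (h₁ ▸ h₂ ▸ h) := by
  subst h₁ h₂; rfl

lemma act_f {T : Scheme.{u}} (r : T ⟶ G.R) (u : T ⟶ G'.U) (h : r ≫ G.s = u ≫ f.fU) :
    act f hs r u h ≫ f.fU = r ≫ G.t := by
  rw [act, Category.assoc, ← f.comm_t, IsPullback.lift_fst_assoc]

lemma comp_act {T T' : Scheme.{u}} (k : T' ⟶ T) (r : T ⟶ G.R) (u : T ⟶ G'.U)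
    (h : r ≫ G.s = u ≫ f.fU) :
    k ≫ act f hs r u h = act f hs (k ≫ r) (k ≫ u) (by simp [h]) := by
  rw [act, act, ← Category.assoc]
  congr 1
  apply hs.hom_ext <;> simp

lemma act_eq_of_lift {T : Scheme.{u}} (r : T ⟶ G.R) (u : T ⟶ G'.U) (h : r ≫ G.s = u ≫ f.fU)
    (r' : T ⟶ G'.R) (h₁ : r' ≫ f.fR = r) (h₂ : r' ≫ G'.s = u) : act f hs r u h = r' ≫ G'.t := by
  rw [act]
  congr 1
  apply hs.hom_ext <;> simp [h₁, h₂]

lemma act_gmul {T : Scheme.{u}} (r₁ r₂ : T ⟶ G.R) (h₁₂ : r₁ ≫ G.s = r₂ ≫ G.t) (u : T ⟶ G'.U)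
    (h : r₂ ≫ G.s = u ≫ f.fU) :
    act f hs (gmul G r₁ r₂ h₁₂) u (by rw [gmul_s, h]) =
      act f hs r₁ (act f hs r₂ u h) (by rw [act_f, h₁₂]) := by
  have hc : hs.lift r₁ (act f hs r₂ u h) (by rw [act_f, h₁₂]) ≫ G'.s = hs.lift r₂ u h ≫ G'.t := by
    rw [IsPullback.lift_snd, act]
  rw [act_eq_of_lift f hs _ u _ (gmul G' (hs.lift r₁ (act f hs r₂ u h) (by rw [act_f, h₁₂]))
    (hs.lift r₂ u h) hc), gmul_t]
  · rfl
  · rw [gmul_eq, f.comm_c, ← gmul_eq]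
    exact gmul_congr G (hs.lift_fst _ _ _) (hs.lift_fst _ _ _) _
  · rw [gmul_s, IsPullback.lift_snd]

section Stab

variable (hstab : ∃ g : G'.stabilizer ⟶ G.stabilizer,
  g ≫ pullback.fst G.j G.diag = pullback.fst G'.j G'.diag ≫ f.fR ∧
    IsPullback g G'.stabilizerToU G.stabilizerToU f.fU)

include hstab

lemma act_stab {T : Scheme.{u}} (r : T ⟶ G.R) (u : T ⟶ G'.U) (h : r ≫ G.s = u ≫ f.fU)
    (ht : r ≫ G.t = r ≫ G.s) : act f hs r u h = u := by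
  obtain ⟨g, hg, hgc⟩ := hstab
  let z := hgc.lift (stabMk G r (r ≫ G.s) ht rfl) u (by rw [stabMk_toU, h])
  have hz₁ : z ≫ g = stabMk G r (r ≫ G.s) ht rfl := hgc.lift_fst _ _ _
  have hz₂ : z ≫ G'.stabilizerToU = u := hgc.lift_snd _ _ _
  obtain ⟨e₁, e₂⟩ := stab_cond G' z
  rw [act_eq_of_lift f hs r u h (z ≫ pullback.fst G'.j G'.diag)
    (by rw [Category.assoc, ← hg, ← Category.assoc, hz₁, stabMk_fst]) (e₂.trans hz₂)]
  exact e₁.trans hz₂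

/-- arrows with the same ends act in the same way -/
lemma act_eq {T : Scheme.{u}} (r₁ r₂ : T ⟶ G.R) (u : T ⟶ G'.U) (h : r₂ ≫ G.s = u ≫ f.fU)
    (hs' : r₁ ≫ G.s = r₂ ≫ G.s) (ht : r₁ ≫ G.t = r₂ ≫ G.t) :
    act f hs r₁ u (hs'.trans h) = act f hs r₂ u h := by
  have hd : r₁ ≫ G.s = (r₂ ≫ G.i) ≫ G.t := by rw [Category.assoc, G.i_t, hs']
  have hd' : gmul G r₁ (r₂ ≫ G.i) hd ≫ G.s = r₂ ≫ G.t := by
    rw [gmul_s, Category.assoc, G.i_s]
  rw [act_congr f hs (div_mul G r₁ r₂ hs').symm rfl (hs'.trans h)]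
  rw [act_gmul f hs _ r₂ hd' u h]
  exact act_stab f hs hstab _ _ _ (by rw [hd', gmul_t, ht])

end Stab

variable (hstab : ∃ g : G'.stabilizer ⟶ G.stabilizer,
  g ≫ pullback.fst G.j G.diag = pullback.fst G'.j G'.diag ≫ f.fR ∧
    IsPullback g G'.stabilizerToU G.stabilizerToU f.fU)

variable [IsAffine G.U] [IsAffine G.R] [IsFinite G.s] [Flat G.s] [LocallyOfFinitePresentation G.s]
  [IsFinite G.t] [Flat G.t] [LocallyOfFinitePresentation G.t]

/-- arrows to pairs of points with the same image in the quotient -/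
noncomputable def toPairs (G : Grpd.GroupoidScheme S) [IsAffine G.U] [IsAffine G.R] :
    G.R ⟶ pullback G.toQuot G.toQuot :=
  pullback.lift G.t G.s (t_toQuot G)

theorem univSubmersive_toPairs : SGA1.UnivSubmersive (toPairs G) := by
  have h2 : toPairs G ≫ pullback.snd G.toQuot G.toQuot = G.s := pullback.lift_snd _ _ _
  have : IsIntegralHom G.toQuot := isIntegralHom_toQuot G
  have : IsAffineHom (pullback.snd G.toQuot G.toQuot) := inferInstance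
  have : IsFinite (toPairs G ≫ pullback.snd G.toQuot G.toQuot) := by rw [h2]; infer_instance
  have : IsFinite (toPairs G) := IsFinite.of_comp (toPairs G) (pullback.snd G.toQuot G.toQuot)
  have : Surjective (toPairs G) := by
    refine ⟨fun y => ?_⟩
    obtain ⟨K, _, _, z, w, hw⟩ := exists_geom_point y
    obtain ⟨r, hr₁, hr₂⟩ := toQuot_exists_arrow G (w ≫ pullback.fst _ _) (w ≫ pullback.snd _ _)
      (by rw [Category.assoc, Category.assoc, pullback.condition])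
    refine ⟨r z, ?_⟩
    have e : r ≫ toPairs G = w := by
      apply pullback.hom_ext <;> simp [toPairs, hr₁, hr₂]
    rw [← Scheme.Hom.comp_apply, e, hw]
  exact Purity.univSubmersive_of_universallyClosed _

/-- the translation characterised on covers by arrows -/
def IsTr {T : Scheme.{u}} (x₀ x₁ : T ⟶ G.U) (v : T ⟶ G'.U) (hv : v ≫ f.fU = x₀) (v' : T ⟶ G'.U) : Prop :=
  ∀ {Z : Scheme.{u}} (k : Z ⟶ T) (r : Z ⟶ G.R) (hr₀ : r ≫ G.s = k ≫ x₀), r ≫ G.t = k ≫ x₁ →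
    act f hs r (k ≫ v) (by rw [hr₀, Category.assoc, hv]) = k ≫ v'

variable [Etale f.fU]

include hstab in
theorem existsUnique_tr {T : Scheme.{u}} (x₀ x₁ : T ⟶ G.U) (h : x₀ ≫ G.toQuot = x₁ ≫ G.toQuot)
    (v : T ⟶ G'.U) (hv : v ≫ f.fU = x₀) :
    ∃! v' : T ⟶ G'.U, v' ≫ f.fU = x₁ ∧ IsTr f hs x₀ x₁ v hv v' := by
  let w : T ⟶ pullback G.toQuot G.toQuot := pullback.lift x₁ x₀ h.symm
  let c : pullback w (toPairs G) ⟶ T := pullback.fst _ _
  let ρ : pullback w (toPairs G) ⟶ G.R := pullback.snd _ _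
  have hc : SGA1.UnivSubmersive c := EtDD.subm_fst w univSubmersive_toPairs
  have hw : c ≫ w = ρ ≫ toPairs G := pullback.condition
  have hρt : ρ ≫ G.t = c ≫ x₁ := by
    have := congrArg (· ≫ pullback.fst G.toQuot G.toQuot) hw
    simp only [Category.assoc, w, toPairs, pullback.lift_fst] at this
    exact this.symm
  have hρs : ρ ≫ G.s = c ≫ x₀ := by
    have := congrArg (· ≫ pullback.snd G.toQuot G.toQuot) hw
    simp only [Category.assoc, w, toPairs, pullback.lift_snd] at this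
    exact this.symm
  obtain ⟨v', ⟨hv'₁, hv'₂⟩, huniq⟩ := EtDD.exists_desc hc x₁ f.fU
    (act f hs ρ (c ≫ v) (by rw [hρs, Category.assoc, hv]))
    (by rw [act_f, hρt]) fun a b hab => by
      rw [comp_act, comp_act]
      have e : a ≫ c ≫ v = b ≫ c ≫ v := by rw [← Category.assoc, hab, Category.assoc]
      rw [act_congr f hs rfl e]
      exact act_eq f hs hstab _ _ _ _
        (by rw [Category.assoc, Category.assoc, hρs, ← Category.assoc, hab, Category.assoc])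
        (by rw [Category.assoc, Category.assoc, hρt, ← Category.assoc, hab, Category.assoc])
  refine ⟨v', ⟨hv'₁, fun {Z} k r hr₀ hr₁ => ?_⟩, ?_⟩
  · let k' : Z ⟶ pullback w (toPairs G) := pullback.lift k r (by
      apply pullback.hom_ext <;> simp [w, toPairs, hr₀, hr₁])
    have e₁ : k' ≫ c = k := pullback.lift_fst _ _ _
    have e₂ : k' ≫ ρ = r := pullback.lift_snd _ _ _
    have := congrArg (k' ≫ ·) hv'₂
    simp only [← Category.assoc, e₁] at this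
    rw [this, comp_act]
    exact act_congr f hs e₂.symm (by rw [← Category.assoc, e₁]) _
  · rintro v'' ⟨h1, h2⟩
    exact huniq v'' ⟨h1, (h2 c ρ hρs hρt).symm⟩

/-- a translation may be checked after a universally submersive cover -/
theorem tr_eq_of_cover {T T' : Scheme.{u}} {g : T' ⟶ T} (hg : SGA1.UnivSubmersive g)
    {v₁ v₂ : T ⟶ G'.U} (h : v₁ ≫ f.fU = v₂ ≫ f.fU) (he : g ≫ v₁ = g ≫ v₂) : v₁ = v₂ := by
  obtain ⟨v, -, huniq⟩ := EtDD.exists_desc hg (v₁ ≫ f.fU) f.fU (g ≫ v₁) (Category.assoc _ _ _)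
    fun a b hab => by rw [← Category.assoc, hab, Category.assoc]
  exact (huniq v₁ ⟨rfl, rfl⟩).trans (huniq v₂ ⟨h.symm, he.symm⟩).symm

/-- the translation -/
noncomputable def tr
    {T : Scheme.{u}} (x₀ x₁ : T ⟶ G.U) (h : x₀ ≫ G.toQuot = x₁ ≫ G.toQuot)
    (v : Desc.Lifts (Over.mk f.fU) x₀) : Desc.Lifts (Over.mk f.fU) x₁ :=
  ⟨(existsUnique_tr f hs hstab x₀ x₁ h v.1 v.2).exists.choose,
    (existsUnique_tr f hs hstab x₀ x₁ h v.1 v.2).exists.choose_spec.1⟩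

lemma tr_spec {T : Scheme.{u}} (x₀ x₁ : T ⟶ G.U) (h : x₀ ≫ G.toQuot = x₁ ≫ G.toQuot)
    (v : Desc.Lifts (Over.mk f.fU) x₀) :
    IsTr f hs x₀ x₁ v.1 v.2 (tr f hs hstab x₀ x₁ h v).1 :=
  (existsUnique_tr f hs hstab x₀ x₁ h v.1 v.2).exists.choose_spec.2

lemma tr_unique {T : Scheme.{u}} (x₀ x₁ : T ⟶ G.U) (h : x₀ ≫ G.toQuot = x₁ ≫ G.toQuot)
    (v : Desc.Lifts (Over.mk f.fU) x₀) (v' : T ⟶ G'.U) (h₁ : v' ≫ f.fU = x₁)
    (h₂ : IsTr f hs x₀ x₁ v.1 v.2 v') : (tr f hs hstab x₀ x₁ h v).1 = v' :=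
  (existsUnique_tr f hs hstab x₀ x₁ h v.1 v.2).unique
    (existsUnique_tr f hs hstab x₀ x₁ h v.1 v.2).exists.choose_spec ⟨h₁, h₂⟩

lemma tr_self {T : Scheme.{u}} (x : T ⟶ G.U) (v : Desc.Lifts (Over.mk f.fU) x) :
    tr f hs hstab x x rfl v = v :=
  Subtype.ext (tr_unique f hs hstab x x rfl v v.1 v.2 fun k r hr₀ hr₁ =>
    act_stab f hs hstab r _ _ (hr₁.trans hr₀.symm))

lemma tr_comp {T : Scheme.{u}} (x₀ x₁ x₂ : T ⟶ G.U) (h₀₁ : x₀ ≫ G.toQuot = x₁ ≫ G.toQuot)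
    (h₁₂ : x₁ ≫ G.toQuot = x₂ ≫ G.toQuot) (v : Desc.Lifts (Over.mk f.fU) x₀) :
    tr f hs hstab x₁ x₂ h₁₂ (tr f hs hstab x₀ x₁ h₀₁ v) =
      tr f hs hstab x₀ x₂ (h₀₁.trans h₁₂) v := by
  refine Subtype.ext ?_
  let w₁ : T ⟶ pullback G.toQuot G.toQuot := pullback.lift x₁ x₀ h₀₁.symm
  let w₂ : T ⟶ pullback G.toQuot G.toQuot := pullback.lift x₂ x₁ h₁₂.symm
  let c₁ := pullback.fst w₁ (toPairs G)
  let c₂ := pullback.fst (c₁ ≫ w₂) (toPairs G)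
  let r₁ := c₂ ≫ pullback.snd w₁ (toPairs G)
  let r₂ := pullback.snd (c₁ ≫ w₂) (toPairs G)
  have hc : SGA1.UnivSubmersive (c₂ ≫ c₁) :=
    EtDD.subm_comp (EtDD.subm_fst _ univSubmersive_toPairs) (EtDD.subm_fst _ univSubmersive_toPairs)
  have e₁ : (c₂ ≫ c₁) ≫ w₁ = r₁ ≫ toPairs G := by
    rw [Category.assoc, Category.assoc, pullback.condition]
  have e₂ : (c₂ ≫ c₁) ≫ w₂ = r₂ ≫ toPairs G := by
    rw [Category.assoc, pullback.condition]
  have a₁ : r₁ ≫ G.s = (c₂ ≫ c₁) ≫ x₀ := by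
    simpa [w₁, toPairs] using (congrArg (· ≫ pullback.snd G.toQuot G.toQuot) e₁).symm
  have a₂ : r₁ ≫ G.t = (c₂ ≫ c₁) ≫ x₁ := by
    simpa [w₁, toPairs] using (congrArg (· ≫ pullback.fst G.toQuot G.toQuot) e₁).symm
  have b₁ : r₂ ≫ G.s = (c₂ ≫ c₁) ≫ x₁ := by
    simpa [w₂, toPairs] using (congrArg (· ≫ pullback.snd G.toQuot G.toQuot) e₂).symm
  have b₂ : r₂ ≫ G.t = (c₂ ≫ c₁) ≫ x₂ := by
    simpa [w₂, toPairs] using (congrArg (· ≫ pullback.fst G.toQuot G.toQuot) e₂).symm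
  refine tr_eq_of_cover f hc (((tr f hs hstab x₁ x₂ h₁₂ _).2).trans
    ((tr f hs hstab x₀ x₂ (h₀₁.trans h₁₂) v).2).symm) ?_
  have hv : (v.1 : T ⟶ G'.U) ≫ f.fU = x₀ := v.2
  have hm : r₂ ≫ G.s = r₁ ≫ G.t := b₁.trans a₂.symm
  rw [← tr_spec f hs hstab x₁ x₂ h₁₂ (tr f hs hstab x₀ x₁ h₀₁ v) (c₂ ≫ c₁) r₂ b₁ b₂,
    ← tr_spec f hs hstab x₀ x₂ (h₀₁.trans h₁₂) v (c₂ ≫ c₁) (gmul G r₂ r₁ hm)
      (by rw [gmul_s, a₁]) (by rw [gmul_t, b₂]),
    act_gmul f hs r₂ r₁ hm _ (by rw [a₁, Category.assoc (c₂ ≫ c₁), hv])]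
  exact act_congr f hs rfl (tr_spec f hs hstab x₀ x₁ h₀₁ v (c₂ ≫ c₁) r₁ a₁ a₂).symm _

lemma tr_natural {T T' : Scheme.{u}} (g : T' ⟶ T) (x₀ x₁ : T ⟶ G.U)
    (h : x₀ ≫ G.toQuot = x₁ ≫ G.toQuot) (h' : (g ≫ x₀) ≫ G.toQuot = (g ≫ x₁) ≫ G.toQuot)
    (v : Desc.Lifts (Over.mk f.fU) x₀) (v' : Desc.Lifts (Over.mk f.fU) (g ≫ x₀))
    (hv' : v'.1 = g ≫ v.1) :
    (tr f hs hstab (g ≫ x₀) (g ≫ x₁) h' v').1 = g ≫ (tr f hs hstab x₀ x₁ h v).1 := by
  have hv₂ : (tr f hs hstab x₀ x₁ h v).1 ≫ f.fU = x₁ := (tr f hs hstab x₀ x₁ h v).2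
  refine tr_unique f hs hstab _ _ h' v' _ (by rw [Category.assoc, hv₂]) ?_
  intro Z k r hr₀ hr₁
  rw [act_congr f hs rfl (show k ≫ v'.1 = (k ≫ g) ≫ v.1 by rw [hv', Category.assoc]),
    tr_spec f hs hstab x₀ x₁ h v (k ≫ g) r (by rw [hr₀, Category.assoc])
      (by rw [hr₁, Category.assoc]), Category.assoc]

/-- the descent datum -/
noncomputable def datum : Desc.SchDD G.toQuot where
  obj := Over.mk f.fU
  φ T x₀ x₁ h :=
    { toFun := tr f hs hstab x₀ x₁ h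
      invFun := tr f hs hstab x₁ x₀ h.symm
      left_inv := fun v => by rw [tr_comp, tr_self]
      right_inv := fun v => by rw [tr_comp, tr_self] }
  φ_natural T T' g x₀ x₁ h h' v v' hv' := tr_natural f hs hstab g x₀ x₁ h h' v v' hv'
  φ_self T x v := tr_self f hs hstab x v
  φ_comp T x₀ x₁ x₂ h₀₁ h₁₂ v := tr_comp f hs hstab x₀ x₁ x₂ h₀₁ h₁₂ v

/-- the arrows of `G'` are translations -/
lemma tr_arrow (h : (G'.s ≫ f.fU) ≫ G.toQuot = (G'.t ≫ f.fU) ≫ G.toQuot) :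
    (tr f hs hstab (G'.s ≫ f.fU) (G'.t ≫ f.fU) h ⟨G'.s, rfl⟩).1 = G'.t := by
  refine tr_unique f hs hstab _ _ h ⟨G'.s, rfl⟩ G'.t rfl ?_
  intro Z k r hr₀ hr₁
  have e := act_eq f hs hstab r (k ≫ f.fR) (k ≫ G'.s)
    (by rw [Category.assoc, f.comm_s, Category.assoc])
    (by rw [hr₀, Category.assoc, f.comm_s])
    (by rw [hr₁, Category.assoc, f.comm_t])
  rw [e]
  exact act_eq_of_lift f hs _ _ _ k rfl rfl

end Groth.Agent.GrpdEtale
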