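import Groth.Agent.GrpdEtale.Act
import Groth.Agent.S0783
import Groth.Agent.S7487
import Groth.Agent.AbsApprox.Chevalley

/-!
# Cartesian etale morphisms of affine groupoids preserving stabilizers: the quotients

`U' = Spec C' ×_{Spec C} U` and `Spec C' ⟶ Spec C` is etale.
-/

set_option autoImplicit false
set_option backward.isDefEq.respectTransparency false
set_option backward.isDefEq.respectTransparency.types false

universe u

open CategoryTheory CategoryTheory.Limits AlgebraicGeometry TensorProduct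

namespace Groth.Agent.GrpdEtale

open Groth.Agent.GrpdLib

/-- global functions on a fibre product of affine schemes over `Spec C` -/
theorem bijective_liftRing {C : Type u} [CommRing C] {P X Y : Scheme.{u}} [IsAffine X] [IsAffine Y]
    (a : P ⟶ X) (b : P ⟶ Y) (p : X ⟶ Spec (CommRingCat.of C)) (q : Y ⟶ Spec (CommRingCat.of C))
    (hP : IsPullback a b p q) [Algebra C Γ(X, ⊤)] [Algebra C Γ(Y, ⊤)]
    (hp : ∀ c : C, algebraMap C Γ(X, ⊤) c = p.appTop ((Scheme.ΓSpecIso (CommRingCat.of C)).inv c))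
    (hq : ∀ c : C, algebraMap C Γ(Y, ⊤) c = q.appTop ((Scheme.ΓSpecIso (CommRingCat.of C)).inv c))
    (h : ∀ c : C, a.appTop.hom (algebraMap C Γ(X, ⊤) c) = b.appTop.hom (algebraMap C Γ(Y, ⊤) c)) :
    Function.Bijective (liftRing a.appTop.hom b.appTop.hom h) := by
  have H := isPushout_appTop_of_isPullback hP
  let μ := Scheme.ΓSpecIso (CommRingCat.of C)
  have H' : IsPushout (CommRingCat.ofHom (algebraMap C Γ(X, ⊤))) (CommRingCat.ofHom (algebraMap C Γ(Y, ⊤)))
      a.appTop b.appTop := by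
    refine H.of_iso μ (Iso.refl _) (Iso.refl _) (Iso.refl _) ?_ ?_ (by simp) (by simp)
    · ext z
      show p.appTop z = algebraMap C Γ(X, ⊤) (μ.hom z)
      rw [hp, show μ.inv (μ.hom z) = z from μ.hom_inv_id_apply z]
    · ext z
      show q.appTop z = algebraMap C Γ(Y, ⊤) (μ.hom z)
      rw [hq, show μ.inv (μ.hom z) = z from μ.hom_inv_id_apply z]
  let e := (CommRingCat.isPushout_tensorProduct C Γ(X, ⊤) Γ(Y, ⊤)).isoIsPushout _ _ H'
  have he : e.hom.hom = liftRing a.appTop.hom b.appTop.hom h := by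
    refine ringHom_ext_tmul (fun x => ?_) fun y => ?_
    · rw [liftRing_tmul, map_one, mul_one]
      exact RingHom.congr_fun (congrArg CommRingCat.Hom.hom
        ((CommRingCat.isPushout_tensorProduct C Γ(X, ⊤) Γ(Y, ⊤)).inl_isoIsPushout_hom _ _ H')) x
    · rw [liftRing_tmul, map_one, one_mul]
      exact RingHom.congr_fun (congrArg CommRingCat.Hom.hom
        ((CommRingCat.isPushout_tensorProduct C Γ(X, ⊤) Γ(Y, ⊤)).inr_isoIsPushout_hom _ _ H')) y
  rw [← he]
  exact ConcreteCategory.bijective_of_isIso e.hom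

variable {S : Scheme.{u}} {G' G : Grpd.GroupoidScheme S} (f : Grpd.GroupoidScheme.Hom G' G)
  [IsAffine G.U] [IsAffine G.R] [IsAffine G'.U] [IsAffine G'.R]
  [IsFinite G.s] [Flat G.s] [LocallyOfFinitePresentation G.s]
  [IsFinite G.t] [Flat G.t] [LocallyOfFinitePresentation G.t] [Etale f.fU]

/-- a morphism out of the affine quotient is determined on the objects -/
theorem toQuot_cancel {X : Scheme.{u}} [IsAffine X] (g₁ g₂ : Spec (CommRingCat.of G'.invariants) ⟶ X)
    (h : G'.toQuot ≫ g₁ = G'.toQuot ≫ g₂) : g₁ = g₂ := by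
  rw [toQuot_eq, Category.assoc, Category.assoc, cancel_epi] at h
  rw [← cancel_mono X.isoSpec.hom] at h ⊢
  obtain ⟨φ₁, hφ₁⟩ : ∃ φ, Spec.map φ = g₁ ≫ X.isoSpec.hom := ⟨_, Spec.map_preimage _⟩
  obtain ⟨φ₂, hφ₂⟩ : ∃ φ, Spec.map φ = g₂ ≫ X.isoSpec.hom := ⟨_, Spec.map_preimage _⟩
  rw [Category.assoc, Category.assoc, ← hφ₁, ← hφ₂, ← Spec.map_comp, ← Spec.map_comp] at h
  rw [← hφ₁, ← hφ₂]
  congr 1
  ext x
  exact congr($(Spec.map_injective h).hom x)

omit [Etale f.fU] in
/-- the invariant functions of `G'` are the functions on an affine flat `E` with `U' = E ×_M U`, the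
arrows of `G'` preserving the projection to `E` -/
theorem bijective_toInvariants (hs : IsPullback f.fR G'.s G.s f.fU) {E : Scheme.{u}} [IsAffine E]
    (q : E ⟶ Spec (CommRingCat.of G.invariants)) [Flat q] (π : G'.U ⟶ E)
    (hU : IsPullback f.fU π G.toQuot q) (hπ : G'.t ≫ π = G'.s ≫ π) :
    ∃ θr : Γ(E, ⊤) →+* G'.invariants, G'.invariants.subtype.comp θr = π.appTop.hom ∧
      Function.Bijective θr := by
  have hR : IsPullback f.fR (G'.s ≫ π) (G.s ≫ G.toQuot) q := hs.paste_vert hU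
  let μ := Scheme.ΓSpecIso (CommRingCat.of G.invariants)
  letI algE : Algebra G.invariants Γ(E, ⊤) := (μ.inv ≫ q.appTop).hom.toAlgebra
  have hflat : Module.Flat G.invariants Γ(E, ⊤) := by
    have h1 : (q.appTop).hom.Flat := q.flat_appTop
    show (μ.inv ≫ q.appTop).hom.Flat
    rw [CommRingCat.hom_comp]
    exact RingHom.Flat.comp (RingHom.Flat.of_bijective (ConcreteCategory.bijective_of_isIso μ.inv)) h1
  letI algR : Algebra G.invariants Γ(G.R, ⊤) := (G.s.appTop.hom.comp G.invariants.subtype).toAlgebra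
  have hA : ∀ c : G.invariants, algebraMap G.invariants Γ(G.U, ⊤) c = G.toQuot.appTop (μ.inv c) :=
    fun c => (toQuot_appTop G c).symm
  have hB : ∀ c : G.invariants, algebraMap G.invariants Γ(G.R, ⊤) c =
      (G.s ≫ G.toQuot).appTop (μ.inv c) := fun c => by
    rw [Scheme.Hom.comp_appTop, CommRingCat.comp_apply, ← hA]; rfl
  have hE : ∀ c : G.invariants, algebraMap G.invariants Γ(E, ⊤) c = q.appTop (μ.inv c) :=
    fun c => rfl
  have w₁ : ∀ c : G.invariants, f.fU.appTop.hom (algebraMap G.invariants Γ(G.U, ⊤) c) =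
      π.appTop.hom (algebraMap G.invariants Γ(E, ⊤) c) := fun c => by
    rw [hA, hE]
    exact (appTop_comp f.fU G.toQuot rfl _).trans (appTop_comp π q hU.w.symm _).symm
  have w₂ : ∀ c : G.invariants, f.fR.appTop.hom (algebraMap G.invariants Γ(G.R, ⊤) c) =
      (G'.s ≫ π).appTop.hom (algebraMap G.invariants Γ(E, ⊤) c) := fun c => by
    rw [hB, hE]
    exact (appTop_comp f.fR (G.s ≫ G.toQuot) rfl _).trans (appTop_comp (G'.s ≫ π) q hR.w.symm _).symm
  let Ψ := liftRing f.fU.appTop.hom π.appTop.hom w₁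
  let Φ := liftRing f.fR.appTop.hom (G'.s ≫ π).appTop.hom w₂
  have hΨ : Function.Bijective Ψ := bijective_liftRing _ _ _ _ hU hA hE w₁
  have hΦ : Function.Bijective Φ := bijective_liftRing _ _ _ _ hR hB hE w₂
  let sA : Γ(G.U, ⊤) →ₐ[G.invariants] Γ(G.R, ⊤) := { G.s.appTop.hom with commutes' := fun _ => rfl }
  let tA : Γ(G.U, ⊤) →ₐ[G.invariants] Γ(G.R, ⊤) :=
    { G.t.appTop.hom with commutes' := fun c => c.2.symm }
  let sT := Algebra.TensorProduct.map sA (AlgHom.id G.invariants Γ(E, ⊤))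
  let tT := Algebra.TensorProduct.map tA (AlgHom.id G.invariants Γ(E, ⊤))
  obtain ⟨-, -, hfl⟩ := S7487.result S G Γ(E, ⊤) sT tT (fun a c => rfl) (fun a c => rfl)
  obtain ⟨hinj, hrange⟩ := hfl hflat
  have hΨs : G'.s.appTop.hom.comp Ψ = Φ.comp sT.toRingHom := by
    refine ringHom_ext_tmul (fun a => ?_) fun c => ?_
    · simp only [Ψ, Φ, RingHom.comp_apply, liftRing_tmul, map_one, mul_one]
      show _ = liftRing _ _ w₂ (sA a ⊗ₜ 1)
      rw [liftRing_tmul, map_one, mul_one]
      exact (appTop_comp G'.s f.fU rfl a).trans (appTop_comp f.fR G.s f.comm_s a).symm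
    · simp only [Ψ, Φ, RingHom.comp_apply, liftRing_tmul, map_one, one_mul]
      show _ = liftRing _ _ w₂ (sA 1 ⊗ₜ c)
      rw [liftRing_tmul, map_one, map_one, one_mul]
      exact appTop_comp G'.s π rfl c
  have hΨt : G'.t.appTop.hom.comp Ψ = Φ.comp tT.toRingHom := by
    refine ringHom_ext_tmul (fun a => ?_) fun c => ?_
    · simp only [Ψ, Φ, RingHom.comp_apply, liftRing_tmul, map_one, mul_one]
      show _ = liftRing _ _ w₂ (tA a ⊗ₜ 1)
      rw [liftRing_tmul, map_one, mul_one]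
      exact (appTop_comp G'.t f.fU rfl a).trans (appTop_comp f.fR G.t f.comm_t a).symm
    · simp only [Ψ, Φ, RingHom.comp_apply, liftRing_tmul, map_one, one_mul]
      show _ = liftRing _ _ w₂ (tA 1 ⊗ₜ c)
      rw [liftRing_tmul, map_one, map_one, one_mul]
      exact appTop_comp G'.t π hπ c
  have hmem : ∀ c : Γ(E, ⊤), π.appTop.hom c ∈ G'.invariants := fun c =>
    (appTop_comp G'.s π hπ.symm c).trans (appTop_comp G'.t π rfl c).symm
  let θr : Γ(E, ⊤) →+* G'.invariants := π.appTop.hom.codRestrict G'.invariants hmem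
  have hθbij : Function.Bijective θr := by
    have hΨ1 : ∀ c, Ψ (1 ⊗ₜ c) = π.appTop.hom c := fun c => by simp [Ψ]
    constructor
    · intro a b hab
      have h1 : π.appTop.hom a = π.appTop.hom b := congrArg Subtype.val hab
      rw [← hΨ1, ← hΨ1] at h1
      exact hinj (hΨ.1 h1)
    · rintro ⟨a, ha⟩
      obtain ⟨x, rfl⟩ := hΨ.2 a
      have h1 : Φ (sT x) = Φ (tT x) :=
        (RingHom.congr_fun hΨs x).symm.trans (ha.trans (RingHom.congr_fun hΨt x))
      obtain ⟨c, hc⟩ := hrange x (hΦ.1 h1)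
      exact ⟨c, Subtype.ext ((hΨ1 c).symm.trans (congrArg Ψ hc))⟩
  exact ⟨θr, rfl, hθbij⟩

theorem main (hs : IsPullback f.fR G'.s G.s f.fU)
    (hstab : ∃ g : G'.stabilizer ⟶ G.stabilizer,
      g ≫ pullback.fst G.j G.diag = pullback.fst G'.j G'.diag ≫ f.fR ∧
        IsPullback g G'.stabilizerToU G.stabilizerToU f.fU) :
    ∃ g : Spec (CommRingCat.of G'.invariants) ⟶ Spec (CommRingCat.of G.invariants),
      IsPullback f.fU G'.toQuot G.toQuot g ∧ Etale g := by
  have : IsIntegralHom G.toQuot := isIntegralHom_toQuot G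
  have : Surjective G.toQuot := ⟨(toQuot_surjective_orbits G).1⟩
  let D := datum f hs hstab
  have : QuasiCompact D.obj.hom := (inferInstance : QuasiCompact f.fU)
  have : IsSeparated D.obj.hom := (inferInstance : IsSeparated f.fU)
  have : Etale D.obj.hom := (inferInstance : Etale f.fU)
  obtain ⟨E, hEqc, hEsep, hEet, ⟨e⟩⟩ := S0783.result G.toQuot D
  let ι : G'.U ⟶ pullback G.toQuot E.hom := e.inv.hom.left
  have hι : ι ≫ pullback.fst G.toQuot E.hom = f.fU := Over.w e.inv.hom
  have hiso : IsIso ι := ⟨e.hom.hom.left,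
    congrArg (fun z : D ⟶ D => z.hom.left) e.inv_hom_id,
    congrArg (fun z : (Desc.toDD G.toQuot).obj E ⟶ (Desc.toDD G.toQuot).obj E => z.hom.left) e.hom_inv_id⟩
  let π : G'.U ⟶ E.left := ι ≫ pullback.snd G.toQuot E.hom
  have hU : IsPullback f.fU π G.toQuot E.hom :=
    (IsPullback.of_hasPullback G.toQuot E.hom).of_iso (asIso ι).symm (Iso.refl _) (Iso.refl _) (Iso.refl _)
      (by simp [hι]) (by simp [π]) (by simp) (by simp)
  have : IsIntegralHom π := MorphismProperty.of_isPullback (P := @IsIntegralHom) hU ‹_›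
  have : Surjective π := MorphismProperty.of_isPullback (P := @Surjective) hU ‹_›
  have : CompactSpace E.left := QuasiCompact.compactSpace_of_compactSpace E.hom
  have : QuasiSeparatedSpace E.left := quasiSeparatedSpace_of_quasiSeparated E.hom
  have hEaff : IsAffine E.left := AbsApprox.isAffine_of_integral_surjective π
  have hp : G'.s ≫ f.fU ≫ G.toQuot = G'.t ≫ f.fU ≫ G.toQuot := by
    rw [← Category.assoc, ← f.comm_s, ← Category.assoc, ← f.comm_t, Category.assoc, Category.assoc,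
      t_toQuot]
  have hπ : G'.t ≫ π = G'.s ≫ π := by
    have hp' : (G'.s ≫ f.fU) ≫ G.toQuot = (G'.t ≫ f.fU) ≫ G.toQuot := by simpa using hp
    let v : Desc.Lifts D.obj (G'.s ≫ f.fU) := ⟨G'.s, rfl⟩
    have hc := e.inv.comm (G'.s ≫ f.fU) (G'.t ≫ f.fU) hp' v (e.inv.push v) rfl
    have ht : (D.φ (G'.s ≫ f.fU) (G'.t ≫ f.fU) hp' v).1 = G'.t := tr_arrow f hs hstab hp'
    rw [ht] at hc
    have hc' := congrArg (· ≫ pullback.snd G.toQuot E.hom) hc
    simp only [Desc.toDD, Desc.canonicalDD, Equiv.coe_fn_mk, Desc.canMap_val, pullback.lift_snd,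
      Desc.SchDD.Hom.push] at hc'
    simpa [π, ι, v, D, datum] using hc'.symm
  obtain ⟨θr, hθr, hθbij⟩ := bijective_toInvariants f hs E.hom π hU hπ
  let θ : Spec (CommRingCat.of G'.invariants) ⟶ E.left :=
    Spec.map (CommRingCat.ofHom θr) ≫ E.left.isoSpec.inv
  have : IsIso (CommRingCat.ofHom θr) := (RingEquiv.ofBijective θr hθbij).toCommRingCatIso.isIso_hom
  have : IsIso θ := inferInstance
  have hθ : G'.toQuot ≫ θ = π := by
    rw [toQuot_eq]
    simp only [θ, Category.assoc, ← Spec.map_comp_assoc]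
    have : CommRingCat.ofHom θr ≫ CommRingCat.ofHom G'.invariants.subtype = π.appTop := CommRingCat.hom_ext hθr
    rw [this, Scheme.isoSpec_inv_naturality, Iso.hom_inv_id_assoc]
  refine ⟨θ ≫ E.hom, ?_, inferInstance⟩
  exact hU.of_iso (Iso.refl _) (Iso.refl _) (asIso θ).symm (Iso.refl _)
    (by simp) (by simp [← hθ]) (by simp) (by simp)

end Groth.Agent.GrpdEtale
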